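import Cfsg.Agent.Lib.JankoFourLocals.Main
import Cfsg.Agent.Lib.JankoFourTen.Main
import Cfsg.Agent.Lib.JankoFour.DuadClass
import Cfsg.Agent.Lib.JankoFourFive.Main
import Cfsg.Agent.Lib.JankoFourTwo.OrderThree
import Cfsg.Agent.Lib.JankoFourTwo.Setting

/-!
The facts on small centralisers in a group of Janko-four type of the given order, and the normalisers of the
Sylow subgroups for 23, 29, 31, 37, 43 (owner: helper8).
-/

set_option autoImplicit false
set_option maxHeartbeats 800000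
set_option maxRecDepth 8000

namespace CfsgLib.JankoFourLocals

open Cfsg CfsgLib.Sporadic CfsgLib.ThreeTrans CfsgLib.JankoFour CfsgLib.JankoFourHexad CfsgLib.JankoFour.Ten
open CfsgLib.JankoFour.M22 (Grp)

/-- The linear map with companion action of a generator of the field of 32 elements. -/
def xMat : Matrix (Fin 5) (Fin 5) (ZMod 2) :=
  !![0, 0, 0, 0, 1; 1, 0, 0, 0, 0; 0, 1, 0, 0, 1; 0, 0, 1, 0, 0; 0, 0, 0, 1, 0]

/-- Squaring in the field of 32 elements. -/
def sMat : Matrix (Fin 5) (Fin 5) (ZMod 2) :=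
  !![1, 0, 0, 0, 1; 0, 0, 0, 1, 0; 0, 1, 0, 0, 1; 0, 0, 0, 1, 1; 0, 0, 1, 0, 0]

/-- Companion action of a generator of the field of eight elements. -/
def yMat : Matrix (Fin 5) (Fin 5) (ZMod 2) :=
  !![0, 0, 1, 0, 0; 1, 0, 1, 0, 0; 0, 1, 0, 0, 0; 0, 0, 0, 1, 0; 0, 0, 0, 0, 1]

/-- Squaring in the field of eight elements. -/
def tMat : Matrix (Fin 5) (Fin 5) (ZMod 2) :=
  !![1, 0, 0, 0, 0; 0, 0, 1, 0, 0; 0, 1, 1, 0, 0; 0, 0, 0, 1, 0; 0, 0, 0, 0, 1]

theorem mat_facts :
    xMat.det = 1 ∧ sMat.det = 1 ∧ yMat.det = 1 ∧ tMat.det = 1 ∧ xMat ^ 31 = 1 ∧ xMat ≠ 1 ∧ yMat ^ 7 = 1 ∧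
      yMat ≠ 1 ∧ sMat * xMat = xMat * xMat * sMat ∧ tMat * yMat = yMat * yMat * tMat := by
  refine ⟨?_, ?_, ?_, ?_, ?_, ?_, ?_, ?_, ?_, ?_⟩ <;> decide +kernel

theorem sl_lift {n : ℕ} [Fact n.Prime] {A B : Matrix (Fin 5) (Fin 5) (ZMod 2)} (dA : A.det = 1) (dB : B.det = 1)
    (h1 : A ^ n = 1) (h2 : A ≠ 1) (h3 : B * A = A * A * B) :
    ∃ a b : Matrix.SpecialLinearGroup (Fin 5) (ZMod 2), orderOf a = n ∧ b * a * b⁻¹ = a ^ 2 := by
  obtain ⟨a, ha⟩ : ∃ a : Matrix.SpecialLinearGroup (Fin 5) (ZMod 2), a.1 = A := ⟨⟨A, dA⟩, rfl⟩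
  obtain ⟨b, hb⟩ : ∃ b : Matrix.SpecialLinearGroup (Fin 5) (ZMod 2), b.1 = B := ⟨⟨B, dB⟩, rfl⟩
  have hn : a ^ n = 1 := by
    apply Subtype.ext
    rw [Matrix.SpecialLinearGroup.coe_pow, Matrix.SpecialLinearGroup.coe_one]
    exact ha.symm ▸ h1
  have hne : a ≠ 1 := fun e => h2 (by
    rw [← ha, e]
    exact Matrix.SpecialLinearGroup.coe_one)
  have hba : b * a = a * a * b := by
    apply Subtype.ext
    rw [Matrix.SpecialLinearGroup.coe_mul, Matrix.SpecialLinearGroup.coe_mul, Matrix.SpecialLinearGroup.coe_mul,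
      show (a : Matrix (Fin 5) (Fin 5) (ZMod 2)) = A from ha, show (b : Matrix (Fin 5) (Fin 5) (ZMod 2)) = B from hb]
    exact h3
  refine ⟨a, b, orderOf_eq_prime hn hne, ?_⟩
  rw [hba, pow_two]
  group

theorem sl_pair :
    (∃ x g : Matrix.SpecialLinearGroup (Fin 5) (ZMod 2), orderOf x = 31 ∧ g * x * g⁻¹ = x ^ 2) ∧
      ∃ x g : Matrix.SpecialLinearGroup (Fin 5) (ZMod 2), orderOf x = 7 ∧ g * x * g⁻¹ = x ^ 2 := by
  obtain ⟨dx, ds, dy, dt, x31, x1, y7, y1, ex, ey⟩ := mat_facts
  haveI : Fact (Nat.Prime 31) := ⟨by norm_num⟩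
  haveI : Fact (Nat.Prime 7) := ⟨by norm_num⟩
  refine ⟨?_, ?_⟩
  · exact sl_lift dx ds x31 x1 ex
  · exact sl_lift dy dt y7 y1 ey

/-- The unit two modulo 23. -/
def twoU : (ZMod 23)ˣ := ⟨2, 12, by decide +kernel, by decide +kernel⟩

/-- A square root of two modulo 23. -/
def fiveU : (ZMod 23)ˣ := ⟨5, 14, by decide +kernel, by decide +kernel⟩

theorem perm_facts :
    (Equiv.optionCongr (Equiv.addRight (1 : ZMod 23))) ^ 23 = 1 ∧
    Equiv.optionCongr (Equiv.addRight (1 : ZMod 23)) ≠ 1 ∧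
    Equiv.optionCongr (Units.mulLeft twoU) * Equiv.optionCongr (Equiv.addRight (1 : ZMod 23)) =
      Equiv.optionCongr (Equiv.addRight (1 : ZMod 23)) ^ 2 * Equiv.optionCongr (Units.mulLeft twoU) := by
  decide +kernel

theorem m24_pair : ∃ x g : ↥M24, orderOf x = 23 ∧ g * x * g⁻¹ = x ^ 2 := by
  haveI : Fact (Nat.Prime 23) := ⟨by norm_num⟩
  have hu : IsSquare twoU := ⟨fiveU, by decide +kernel⟩
  refine ⟨⟨_, shift_mem⟩, ⟨_, mulSquare_mem twoU hu⟩, ?_, ?_⟩
  · exact orderOf_eq_prime (Subtype.ext perm_facts.1) fun e => perm_facts.2.1 (congrArg Subtype.val e)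
  · exact mul_inv_eq_of_eq_mul (Subtype.ext perm_facts.2.2)

theorem coe_zpow_mem_centralizer {G : Type*} [Group G] {x g : G} (h : Commute g x) :
    Subgroup.zpowers x ≤ Subgroup.centralizer ({g} : Set G) :=
  Subgroup.zpowers_le.2 (Subgroup.mem_centralizer_singleton_iff.2 h.eq.symm)

variable {G : Type*} [Group G] [Finite G] [IsSimpleGroup G] (hG : ¬ IsMulCommutative G)
  (hJ : Cfsg.IsOfJankoFourType G) (hord : Nat.card G = ord4)

include hG hJ hord in
theorem facts : Facts G := by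
  classical
  obtain ⟨z, P, hP⟩ := id hJ
  obtain ⟨S, rfl, rfl⟩ := exists_setting hP
  obtain ⟨F⟩ := exists_frame S
  obtain ⟨B⟩ := S.exists_hexBase
  obtain ⟨T⟩ := B.exists_tenBase hG hJ
  have hC6 : Nat.card ↥S.C = 2661120 := F.card_C
  have small : ∀ p ∈ bigs, ¬ p ∣ 3 * 2 ^ 13 * 443520 ∧ ¬ p ∣ 2661120 ∧ ¬ p ∣ 2 ^ 11 * 887040 ∧ p ≠ 2 := by
    decide +kernel
  have hcentp : ∀ a : G, orderOf a = 3 → ∃ h : G, h * a * h⁻¹ = F.p := by
    intro a ha
    obtain ⟨c, hc⟩ := isConj_iff.1 (janko_four_one_class_three hG hJ a F.p ha F.hp3)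
    exact ⟨c, hc⟩
  have hcp : Subgroup.centralizer ({F.p} : Set G) ≤ S.C := fun c hc =>
    F.centralizer_le hG (F.mem_cent_p.2 (Subgroup.mem_centralizer_singleton_iff.1 hc))
  -- elements of order five
  haveI : Fact (Nat.Prime 5) := ⟨Nat.prime_five⟩
  obtain ⟨q, hq⟩ := exists_prime_orderOf_dvd_card' 5 (hC6 ▸ (by norm_num) : 5 ∣ Nat.card ↥S.C)
  have hQ : Nat.card ↥(Subgroup.zpowers (q : G)) = 5 := by rw [Nat.card_zpowers, Subgroup.orderOf_coe, hq]
  have hQz : Subgroup.zpowers (q : G) ≤ Subgroup.centralizer ({S.z} : Set G) :=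
    Subgroup.zpowers_le.2 (Subgroup.mem_centralizer_singleton_iff.2 (S.mem_C.1 q.2).1.eq)
  obtain ⟨-, -, -, hN5⟩ := order_five_local hG ⟨_, hP⟩ hQ hQz
  refine ⟨hord, ?_, ?_, ?_, ?_, ?_, ?_, ?_⟩
  · intro i hi p hp hd
    haveI : Fact p.Prime := ⟨(big_prime hp).1⟩
    obtain ⟨g, hg⟩ := exists_prime_orderOf_dvd_card' p hd
    have hgo : orderOf (g : G) = p := by rw [Subgroup.orderOf_coe, hg]
    by_cases hiz : IsConj S.z i
    · obtain ⟨c, hc⟩ := isConj_iff.1 hiz
      have h1 : Commute (c⁻¹ * g * c) S.z := by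
        have h2 : Commute (g : G) (c * S.z * c⁻¹) := hc.symm ▸ Subgroup.mem_centralizer_singleton_iff.1 g.2
        show c⁻¹ * g * c * S.z = S.z * (c⁻¹ * g * c)
        calc c⁻¹ * g * c * S.z = c⁻¹ * (g * (c * S.z * c⁻¹)) * c := by group
          _ = c⁻¹ * (c * S.z * c⁻¹ * g) * c := by rw [h2.eq]
          _ = S.z * (c⁻¹ * g * c) := by group
      have ho : orderOf (c⁻¹ * g * c) = p := by
        rw [← hgo, ← (SemiconjBy.orderOf_eq c⁻¹ (show SemiconjBy c⁻¹ (g : G) (c⁻¹ * g * c) by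
          simp [SemiconjBy]))]
      have hm : c⁻¹ * g * c ∈ S.H0 := S.mem_of_odd h1 (by
        rw [ho]; exact (big_prime hp).1.odd_of_ne_two (small p hp).2.2.2)
      refine (small p hp).1 ?_
      rw [← ho, ← F.card_H0, show c⁻¹ * (g : G) * c = ((⟨_, hm⟩ : S.H0) : G) from rfl, Subgroup.orderOf_coe]
      exact orderOf_dvd_natCard _
    · obtain ⟨V, K, hVC, hKC, hVn, -, hV11, hKV, hsup, ⟨e⟩⟩ := centralizer_second_class hG ⟨_, hP⟩ hi hiz
      haveI : (V.subgroupOf (Subgroup.centralizer ({i} : Set G))).Normal := by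
        exact Subgroup.normal_subgroupOf_of_le_normalizer hVn
      have hcard : Nat.card ↥(Subgroup.centralizer ({i} : Set G)) ∣ 2 ^ 11 * 887040 := by
        have h1 : (V.subgroupOf (Subgroup.centralizer ({i} : Set G))).IsComplement'
            (K.subgroupOf (Subgroup.centralizer ({i} : Set G))) := by
          refine Subgroup.isComplement'_of_disjoint_and_mul_eq_univ ?_ ?_
          · rw [disjoint_iff, Subgroup.subgroupOf, Subgroup.subgroupOf, ← Subgroup.comap_inf, inf_comm, hKV,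
              MonoidHom.comap_bot, Subgroup.ker_subtype]
          · rw [← Subgroup.normal_mul, ← Subgroup.subgroupOf_sup hVC hKC, sup_comm, hsup, Subgroup.subgroupOf_self,
              Subgroup.coe_top]
        rw [← h1.card_mul_card, Nat.card_congr (Subgroup.subgroupOfEquivOfLe hVC).toEquiv,
          Nat.card_congr (Subgroup.subgroupOfEquivOfLe hKC).toEquiv, hV11, Nat.card_congr e.toEquiv,
          CfsgLib.JankoFourTwo.Setting.card_aut.1]
      exact (small p hp).2.2.1 (hd.trans hcard)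
  · intro a ha p hp hd
    obtain ⟨h, hh⟩ := hcentp a ha
    have e1 : Subgroup.centralizer ({F.p} : Set G) = cj h (Subgroup.centralizer ({a} : Set G)) := by
      ext x
      rw [mem_cj, Subgroup.mem_centralizer_singleton_iff, Subgroup.mem_centralizer_singleton_iff, ← hh]
      constructor <;> intro e
      · calc h⁻¹ * x * h * a = h⁻¹ * (x * (h * a * h⁻¹)) * h := by group
          _ = h⁻¹ * (h * a * h⁻¹ * x) * h := by rw [e]
          _ = a * (h⁻¹ * x * h) := by group
      · calc x * (h * a * h⁻¹) = h * (h⁻¹ * x * h * a) * h⁻¹ := by group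
          _ = h * (a * (h⁻¹ * x * h)) * h⁻¹ := by rw [e]
          _ = h * a * h⁻¹ * x := by group
    refine (small p hp).2.1 ?_
    rw [← hC6]
    refine hd.trans ?_
    rw [← card_cj h, ← e1]
    exact Subgroup.card_dvd_of_le hcp
  · intro f hf p hp hd
    have hfc : Nat.card ↥(Subgroup.zpowers f) = 5 := by rw [Nat.card_zpowers, hf]
    obtain ⟨c, -, hc⟩ := conj_in Nat.prime_five (K := ⊤) (P := Subgroup.zpowers f) (P' := Subgroup.zpowers (q : G))
      (by rw [Subgroup.card_top, hord]; decide +kernel) le_top le_top hfc hQ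
    have h1 : p ∣ Nat.card ↥(norm' (Subgroup.zpowers (q : G))) := by
      refine hd.trans ?_
      rw [← card_cj c (Subgroup.centralizer ({f} : Set G))]
      refine Subgroup.card_dvd_of_le fun x hx => cent_le_norm _ ?_
      rw [← hc]
      refine mem_cent_of_commute fun v hv => ?_
      obtain ⟨j, hj⟩ := Subgroup.mem_zpowers_iff.1 (mem_cj.1 hv)
      have hx' := Subgroup.mem_centralizer_singleton_iff.1 (mem_cj.1 hx)
      have h2 := (show Commute (c⁻¹ * x * c) f from hx').zpow_right j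
      rw [hj] at h2
      calc x * v = c * (c⁻¹ * x * c * (c⁻¹ * v * c)) * c⁻¹ := by group
        _ = v * x := by rw [h2.eq]; group
    rw [show Nat.card ↥(norm' (Subgroup.zpowers (q : G))) = 2 ^ 8 * 3 * 5 * 7 from hN5] at h1
    revert h1
    simp only [bigs, List.mem_cons, List.not_mem_nil, or_false] at hp
    rcases hp with rfl | rfl | rfl | rfl | rfl | rfl <;> decide +kernel
  · intro x hx hd
    haveI : Fact (Nat.Prime 3) := ⟨Nat.prime_three⟩
    obtain ⟨R, hR⟩ := Sylow.exists_subgroup_card_pow_prime 3 (show 3 ^ 2 ∣ _ from hd)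
    haveI : IsMulCommutative R := ⟨⟨IsPGroup.commutative_of_card_eq_prime_sq (p := 3) (by rw [hR])⟩⟩
    obtain ⟨a, ha⟩ := exists_prime_orderOf_dvd_card' (G := R) 3 (by rw [hR]; norm_num)
    have ha' : orderOf ((a : Subgroup.centralizer ({x} : Set G)) : G) = 3 := by
      rw [Subgroup.orderOf_coe, Subgroup.orderOf_coe, ha]
    obtain ⟨h, hh⟩ := hcentp _ ha'
    let m : R →* G := ((MulAut.conj h).toMonoidHom.comp (Subgroup.subtype _)).comp R.subtype
    have hm : Function.Injective m := fun u v e => Subtype.ext (Subtype.ext ((MulAut.conj h).injective e))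
    have hmC : ∀ b : R, m b ∈ S.C := fun b => hcp (Subgroup.mem_centralizer_singleton_iff.2 (by
      have e := congrArg m (IsMulCommutative.is_comm.comm b a)
      rw [map_mul, map_mul, show m a = F.p from hh] at e
      exact e))
    have hxC : h * x * h⁻¹ ∈ S.C := hcp (Subgroup.mem_centralizer_singleton_iff.2 (by
      have e := Subgroup.mem_centralizer_singleton_iff.1 (a : Subgroup.centralizer ({x} : Set G)).2
      rw [← hh]
      exact ((LargeData.commute_conj_iff' (g := h)).2 (show Commute x _ from e.symm)).eq))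
    let ψ : R →* Grp := S.toGrp.comp (m.codRestrict S.C hmC)
    obtain ⟨b0, hb0⟩ : ∃ b : R, ψ b ≠ 1 := by
      by_contra hall
      simp only [not_exists, not_not] at hall
      let ι : R →* Subgroup.center ↥S.C := (m.codRestrict S.C hmC).codRestrict _ fun b => by
        rw [← F.toGrp_ker]; exact MonoidHom.mem_ker.2 (hall b)
      have hι : Function.Injective ι := fun u v e => hm (congrArg (fun w : Subgroup.center ↥S.C => ((w : S.C) : G)) e)
      have := Subgroup.card_dvd_of_injective ι hι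
      rw [hR, F.center_cyclic.2] at this
      norm_num at this
    obtain ⟨b, hb3⟩ : ∃ b : R, orderOf (ψ b) = 3 := by
      obtain ⟨i, hi, e⟩ := (Nat.dvd_prime_pow Nat.prime_three).1
        ((orderOf_map_dvd ψ b0).trans (hR ▸ orderOf_dvd_natCard b0))
      interval_cases i
      · exact absurd (orderOf_eq_one_iff.1 (by rw [e, pow_zero])) hb0
      · exact ⟨b0, by rw [e, pow_one]⟩
      · exact ⟨b0 ^ 3, by rw [map_pow, orderOf_pow' _ (by norm_num : (3 : ℕ) ≠ 0), e]; norm_num⟩
    -- transport to the standard element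
    obtain ⟨d, hd'⟩ := isConj_iff.1 (F.hcfg.hthree _ hb3)
    set y : Grp := d * S.toGrp ⟨h * x * h⁻¹, hxC⟩ * d⁻¹ with hy
    have hcy : Commute y (S.f F.a) := by
      rw [hy, ← hd']
      refine (LargeData.commute_conj_iff' (g := d)).2 ?_
      refine (Commute.map ?_ S.toGrp)
      refine Subtype.ext ?_
      have e := Subgroup.mem_centralizer_singleton_iff.1 (b : Subgroup.centralizer ({x} : Set G)).2
      exact ((LargeData.commute_conj_iff' (g := h)).2 (show Commute x _ from e.symm)).eq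
    haveI : Fact (Nat.Prime 11) := ⟨by norm_num⟩
    have hy11 : orderOf y = 11 := by
      rw [hy, ← MulAut.conj_apply, ← MulEquiv.coe_toMonoidHom, orderOf_injective _ (MulAut.conj d).injective]
      have ho : orderOf (⟨h * x * h⁻¹, hxC⟩ : S.C) = 11 := by
        rw [Subgroup.orderOf_mk, ← MulAut.conj_apply, ← MulEquiv.coe_toMonoidHom,
          orderOf_injective _ (MulAut.conj h).injective, hx]
      rcases (Nat.dvd_prime (by norm_num : Nat.Prime 11)).1
        (ho ▸ orderOf_map_dvd S.toGrp (⟨h * x * h⁻¹, hxC⟩ : S.C)) with e | e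
      · exfalso
        have hk : (⟨h * x * h⁻¹, hxC⟩ : S.C) ∈ Subgroup.center ↥S.C := by
          rw [← F.toGrp_ker]; exact orderOf_eq_one_iff.1 e
        have h11 := orderOf_dvd_natCard (⟨_, hk⟩ : Subgroup.center ↥S.C)
        rw [Subgroup.orderOf_mk, Subgroup.orderOf_mk, ← MulAut.conj_apply, ← MulEquiv.coe_toMonoidHom,
          orderOf_injective _ (MulAut.conj h).injective, hx, F.center_cyclic.2] at h11
        norm_num at h11
      · exact e
    have hle : Nat.card ↥(Subgroup.centralizer ({S.f F.a} : Set Grp)) ≤ 36 := by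
      haveI := Fintype.ofFinite ↥(Subgroup.centralizer ({S.f F.a} : Set Grp))
      have := F.cent_a_card_le (Finset.univ.map ⟨Subtype.val, Subtype.val_injective⟩ :
        Finset Grp) fun g hg => by
          obtain ⟨w, -, rfl⟩ := Finset.mem_map.1 hg
          exact (Subgroup.mem_centralizer_singleton_iff.1 (w : Subgroup.centralizer ({S.f F.a} : Set Grp)).2)
      rwa [Finset.card_map, Finset.card_univ, ← Nat.card_eq_fintype_card] at this
    have d11 : 11 ∣ Nat.card ↥(Subgroup.centralizer ({S.f F.a} : Set Grp)) := by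
      have h := orderOf_dvd_natCard
        (⟨y, Subgroup.mem_centralizer_singleton_iff.2 hcy.eq⟩ : Subgroup.centralizer ({S.f F.a} : Set Grp))
      rwa [← Subgroup.orderOf_coe, hy11] at h
    have d3 : 3 ∣ Nat.card ↥(Subgroup.centralizer ({S.f F.a} : Set Grp)) := by
      have h := orderOf_dvd_natCard
        (⟨S.f F.a, Subgroup.mem_centralizer_singleton_iff.2 rfl⟩ : Subgroup.centralizer ({S.f F.a} : Set Grp))
      rwa [← Subgroup.orderOf_coe, orderOf_eq_prime F.hcfg.hr F.hcfg.hr1] at h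
    have d2 : 2 ∣ Nat.card ↥(Subgroup.centralizer ({S.f F.a} : Set Grp)) := by
      have h := orderOf_dvd_natCard
        (⟨S.f F.v, Subgroup.mem_centralizer_singleton_iff.2 F.hcfg.hrv.eq.symm⟩ :
          Subgroup.centralizer ({S.f F.a} : Set Grp))
      rwa [← Subgroup.orderOf_coe, orderOf_eq_prime (p := 2) (by rw [pow_two]; exact F.hcfg.hv) F.hcfg.hv1] at h
    have h66 := Nat.le_of_dvd Nat.card_pos (Nat.Coprime.mul_dvd_of_dvd_of_dvd (by norm_num)
      (Nat.Coprime.mul_dvd_of_dvd_of_dvd (by norm_num) d2 d3) d11)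
    omega
  · obtain ⟨C, -, -, -, ⟨e⟩⟩ := T.exists_complement_L5 hG hJ
    obtain ⟨-, x, g, hx, hg⟩ := sl_pair
    exact ⟨(e.symm x : C), (e.symm g : C), by rw [Subgroup.orderOf_coe, MulEquiv.orderOf_eq, hx], by
      simpa using congrArg (fun w => ((e.symm w : C) : G)) hg⟩
  · obtain ⟨x, g, hx, hg⟩ := m24_pair
    have hinj : Function.Injective T.lift := fun s t e => by
      rw [← T.phi_lift s, ← T.phi_lift t]
      congr 1
      exact Subtype.ext e
    exact ⟨T.lift x, T.lift g, by rw [orderOf_injective _ hinj, hx], by rw [← map_inv, ← map_mul, ← map_mul, hg, map_pow]⟩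
  · obtain ⟨C, -, -, -, ⟨e⟩⟩ := T.exists_complement_L5 hG hJ
    obtain ⟨⟨x, g, hx, hg⟩, -⟩ := sl_pair
    exact ⟨(e.symm x : C), (e.symm g : C), by rw [Subgroup.orderOf_coe, MulEquiv.orderOf_eq, hx], by
      simpa using congrArg (fun w => ((e.symm w : C) : G)) hg⟩

include hG hJ hord in
/-- The normalisers of the Sylow subgroups for the five large primes. -/
theorem prime_normalizers :
    (∀ U : Sylow 23 G, Subgroup.centralizer ((U : Subgroup G) : Set G) = (U : Subgroup G) ∧
      Nat.card ↥(Subgroup.normalizer ((U : Subgroup G) : Set G)) = 23 * 22) ∧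
    (∀ U : Sylow 29 G, Subgroup.centralizer ((U : Subgroup G) : Set G) = (U : Subgroup G) ∧
      Nat.card ↥(Subgroup.normalizer ((U : Subgroup G) : Set G)) = 29 * 28) ∧
    (∀ U : Sylow 31 G, Subgroup.centralizer ((U : Subgroup G) : Set G) = (U : Subgroup G) ∧
      Nat.card ↥(Subgroup.normalizer ((U : Subgroup G) : Set G)) = 31 * 10) ∧
    (∀ U : Sylow 37 G, Subgroup.centralizer ((U : Subgroup G) : Set G) = (U : Subgroup G) ∧
      Nat.card ↥(Subgroup.normalizer ((U : Subgroup G) : Set G)) = 37 * 12) ∧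
    (∀ U : Sylow 43 G, Subgroup.centralizer ((U : Subgroup G) : Set G) = (U : Subgroup G) ∧
      Nat.card ↥(Subgroup.normalizer ((U : Subgroup G) : Set G)) = 43 * 14) := by
  have F := facts hG hJ hord
  haveI : Fact (Nat.Prime 23) := ⟨by norm_num⟩
  haveI : Fact (Nat.Prime 29) := ⟨by norm_num⟩
  haveI : Fact (Nat.Prime 31) := ⟨by norm_num⟩
  haveI : Fact (Nat.Prime 37) := ⟨by norm_num⟩
  haveI : Fact (Nat.Prime 43) := ⟨by norm_num⟩
  exact ⟨F.normalisers (by decide), F.normalisers (by decide), F.normalisers (by decide), F.normalisers (by decide),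
    F.normalisers (by decide)⟩

include hG hJ hord in
/-- An element of one of the five large prime orders is self-centralising. -/
theorem self_centralising {p : ℕ} (hp : p ∈ bigs) {y : G} (hy : orderOf y = p) :
    Subgroup.centralizer ({y} : Set G) = Subgroup.zpowers y := by
  have F := facts hG hJ hord
  obtain ⟨hpp, -⟩ := big_prime hp
  have hY : Nat.card ↥(Subgroup.zpowers y) = p := by rw [Nat.card_zpowers, hy]
  have hc : Nat.card ↥(cent (Subgroup.zpowers y)) = p := by
    simp only [bigs, List.mem_cons, List.not_mem_nil, or_false] at hp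
    rcases hp with rfl | rfl | rfl | rfl | rfl
    exacts [(F.twentythree' hY).1, (F.twentynine hY).1, (F.thirtyone' hY).1, (F.thirtyseven hY).1,
      (F.fortythree hY).1]
  rw [← F.eq_cent hpp hY hc]
  refine le_antisymm (fun c hc' => mem_cent_of_commute fun v hv => ?_) (fun c hc' =>
    Subgroup.mem_centralizer_singleton_iff.2 (commute_of_mem_cent hc' (Subgroup.mem_zpowers y)).eq)
  obtain ⟨j, rfl⟩ := Subgroup.mem_zpowers_iff.1 hv
  exact (show Commute c y from Subgroup.mem_centralizer_singleton_iff.1 hc').zpow_right j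

end CfsgLib.JankoFourLocals
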