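import Mathlib.GroupTheory.Sylow
import Mathlib.GroupTheory.SpecificGroups.Cyclic
import Mathlib.GroupTheory.Commutator.Basic

/-!
Normalisers of subgroups of prime order (owner: helper8).
-/

set_option autoImplicit false

namespace CfsgLib.JankoFourLocals

variable {G : Type*} [Group G] [Finite G]

/-- The centraliser, shortened. -/
abbrev cent (U : Subgroup G) : Subgroup G := Subgroup.centralizer (U : Set G)

/-- The normaliser, shortened. -/
abbrev norm' (U : Subgroup G) : Subgroup G := Subgroup.normalizer (U : Set G)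

/-- Conjugation of a subgroup. -/
abbrev cj (g : G) (U : Subgroup G) : Subgroup G := U.map (MulAut.conj g).toMonoidHom

theorem mem_cj {g x : G} {U : Subgroup G} : x ∈ cj g U ↔ g⁻¹ * x * g ∈ U := by
  constructor
  · rintro ⟨y, hy, rfl⟩
    simpa [mul_assoc] using hy
  · exact fun h => ⟨_, h, by simp [mul_assoc]⟩

theorem card_cj (g : G) (U : Subgroup G) : Nat.card ↥(cj g U) = Nat.card ↥U :=
  (Nat.card_congr (U.equivMapOfInjective _ (MulAut.conj g).injective).toEquiv).symm

theorem mem_norm_iff {g : G} {U : Subgroup G} : g ∈ norm' U ↔ cj g U = U := by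
  constructor
  · intro h
    ext x
    rw [mem_cj]
    exact (Subgroup.mem_normalizer_iff''.1 h x).symm
  · intro h
    refine Subgroup.mem_normalizer_iff''.2 fun x => ?_
    rw [← mem_cj, h]

theorem cent_le_norm (U : Subgroup G) : cent U ≤ norm' U := fun c hc => by
  refine Subgroup.mem_normalizer_iff''.2 fun x => ⟨fun hx => ?_, fun hx => ?_⟩
  · rwa [mul_assoc, Subgroup.mem_centralizer_iff.1 hc x hx, inv_mul_cancel_left]
  · have e := Subgroup.mem_centralizer_iff.1 hc _ hx
    rw [show c * (c⁻¹ * x * c) = x * c by group] at e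
    rwa [← mul_right_cancel e]

theorem comm_of_prime_card {U : Subgroup G} {p : ℕ} (hp : p.Prime) (hU : Nat.card U = p) : U ≤ cent U := by
  haveI := Fact.mk hp
  haveI : IsCyclic U := isCyclic_of_prime_card hU
  intro x hx
  refine Subgroup.mem_centralizer_iff.2 fun y hy => ?_
  exact congrArg Subtype.val (IsCyclic.commGroup.mul_comm (⟨y, hy⟩ : U) ⟨x, hx⟩)

/-- Elements of two conjugate centralisers. -/
theorem card_cent_cj (g : G) (U : Subgroup G) : Nat.card ↥(cent (cj g U)) = Nat.card ↥(cent U) := by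
  rw [show cent (cj g U) = cj g (cent U) from ?_, card_cj]
  ext x
  simp only [mem_cj, Subgroup.mem_centralizer_iff, SetLike.mem_coe]
  constructor
  · intro h y hy
    have := h (g * y * g⁻¹) (by rwa [show g⁻¹ * (g * y * g⁻¹) * g = y by group])
    calc y * (g⁻¹ * x * g) = g⁻¹ * (g * y * g⁻¹ * x) * g := by group
      _ = g⁻¹ * x * g * y := by rw [this]; group
  · intro h y hy
    calc y * x = g * (g⁻¹ * y * g * (g⁻¹ * x * g)) * g⁻¹ := by group
      _ = x * y := by rw [h _ hy]; group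

/-- Subgroups of order `q` in `K` are conjugate in `K` when `q` divides the order of `K` only once. -/
theorem conj_in {q : ℕ} (hq : q.Prime) {K P P' : Subgroup G} (hK : ¬ q * q ∣ Nat.card ↥K) (hPK : P ≤ K)
    (hP'K : P' ≤ K) (hP : Nat.card P = q) (hP' : Nat.card P' = q) : ∃ c ∈ K, cj c P = P' := by
  haveI := Fact.mk hq
  have hf : (Nat.card ↥K).factorization q = 1 := by
    have h1 : q ∣ Nat.card ↥K := hP ▸ Subgroup.card_dvd_of_le hPK
    have h2 := (hq.dvd_iff_one_le_factorization Nat.card_pos.ne').1 h1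
    by_contra h3
    exact hK ((pow_two q) ▸ (hq.pow_dvd_iff_le_factorization Nat.card_pos.ne').2 (by omega))
  have mk : ∀ R : Subgroup G, R ≤ K → Nat.card R = q → ∃ S : Sylow q K, (S : Subgroup K) = R.subgroupOf K := by
    intro R hR hc
    refine ⟨Sylow.ofCard (R.subgroupOf K) ?_, rfl⟩
    rw [hf, pow_one, Nat.card_congr (Subgroup.subgroupOfEquivOfLe hR).toEquiv, hc]
  obtain ⟨S, hS⟩ := mk P hPK hP
  obtain ⟨S', hS'⟩ := mk P' hP'K hP'
  obtain ⟨c, hc⟩ := MulAction.exists_smul_eq K S S'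
  refine ⟨c, c.2, Subgroup.eq_of_le_of_card_ge (fun x hx => ?_) (by rw [card_cj, hP, hP'])⟩
  have hm : (c : G)⁻¹ * x * c ∈ P := mem_cj.1 hx
  have hcx : (⟨x, by simpa [mul_assoc] using K.mul_mem (K.mul_mem c.2 (hPK hm)) (K.inv_mem c.2)⟩ : K) ∈
      (S' : Subgroup K) := by
    rw [← hc, Sylow.coe_subgroup_smul]
    exact Subgroup.mem_pointwise_smul_iff_inv_smul_mem.2 (by
      rw [← map_inv, MulAut.smul_def, MulAut.conj_apply, inv_inv, hS, Subgroup.mem_subgroupOf]
      exact hm)
  rw [hS', Subgroup.mem_subgroupOf] at hcx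
  exact hcx

/-- An element of prime order `r` normalising a group of order `q` centralises it if `r` does not divide
`q - 1`. -/
theorem commute_of_norm {q r : ℕ} (hq : q.Prime) (hr : r.Prime) (hrq : ¬ r ∣ q - 1) {P : Subgroup G}
    (hP : Nat.card P = q) {g : G} (hg : g ^ r = 1) (hgP : g ∈ norm' P) {x : G} (hx : x ∈ P) : Commute g x := by
  haveI := Fact.mk hq
  haveI : IsCyclic P := isCyclic_of_prime_card hP
  let ψ : ↥(norm' P) →* MulAut P := P.normalizerMonoidHom
  have h1 : ψ ⟨g, hgP⟩ ^ r = 1 := by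
    rw [← map_pow]
    convert map_one ψ
    exact Subtype.ext hg
  have hcard : Nat.card (MulAut P) = q - 1 := by rw [IsCyclic.card_mulAut, hP, Nat.totient_prime hq]
  have h2 : ψ ⟨g, hgP⟩ = 1 := by
    have h3 : orderOf (ψ ⟨g, hgP⟩) ∣ Nat.gcd r (q - 1) :=
      Nat.dvd_gcd (orderOf_dvd_of_pow_eq_one h1) (hcard ▸ orderOf_dvd_natCard _)
    rwa [(hr.coprime_iff_not_dvd.2 hrq).gcd_eq_one, Nat.dvd_one, orderOf_eq_one_iff] at h3
  have h4 : g * x * g⁻¹ = x :=
    congrArg Subtype.val (DFunLike.congr_fun h2 ⟨x, hx⟩ : ψ ⟨g, hgP⟩ ⟨x, hx⟩ = ⟨x, hx⟩)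
  exact mul_inv_eq_iff_eq_mul.1 h4

/-- The automiser of a subgroup. -/
noncomputable def autCard (U : Subgroup G) : ℕ := (cent U).relIndex (norm' U)

theorem card_norm (U : Subgroup G) : Nat.card ↥(norm' U) = Nat.card ↥(cent U) * autCard U := by
  rw [← ((cent U).subgroupOf (norm' U)).card_mul_index,
    Nat.card_congr (Subgroup.subgroupOfEquivOfLe (cent_le_norm U)).toEquiv]
  rfl

theorem autCard_dvd {p : ℕ} (hp : p.Prime) {U : Subgroup G} (hU : Nat.card U = p) : autCard U ∣ p - 1 := by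
  haveI := Fact.mk hp
  haveI : IsCyclic U := isCyclic_of_prime_card hU
  show ((cent U).subgroupOf (norm' U)).index ∣ p - 1
  rw [← Subgroup.normalizerMonoidHom_ker, Subgroup.index_ker]
  have := Subgroup.card_subgroup_dvd_card (MonoidHom.range (U.normalizerMonoidHom))
  rwa [IsCyclic.card_mulAut, hU, Nat.totient_prime hp] at this

/-- An element of prime order `r` in the normaliser moving the subgroup. -/
theorem exists_mover {r : ℕ} (hr : r.Prime) {U : Subgroup G} (hre : r ∣ autCard U)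
    (hrC : ¬ r ∣ Nat.card ↥(cent U)) : ∃ g ∈ norm' U, orderOf g = r ∧ g ∉ cent U := by
  haveI := Fact.mk hr
  have hd : r ∣ Nat.card ↥(norm' U) := (card_norm U).symm ▸ hre.mul_left _
  obtain ⟨g, hg⟩ := exists_prime_orderOf_dvd_card' r hd
  refine ⟨g, g.2, by rw [Subgroup.orderOf_coe, hg], fun hc => hrC ?_⟩
  have := orderOf_dvd_natCard (⟨(g : G), hc⟩ : cent U)
  rwa [Subgroup.orderOf_mk, Subgroup.orderOf_coe, hg] at this

/-- Centralisers of commuting subgroups of prime orders: the element version. -/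
theorem mem_cent_of_commute {U : Subgroup G} {g : G} (h : ∀ x ∈ U, Commute g x) : g ∈ cent U :=
  Subgroup.mem_centralizer_iff.2 fun x hx => (h x hx).eq.symm

theorem commute_of_mem_cent {U : Subgroup G} {g x : G} (h : g ∈ cent U) (hx : x ∈ U) : Commute g x :=
  (Subgroup.mem_centralizer_iff.1 h x hx).symm

/-- An element moving a subgroup of the centraliser can be corrected to normalise both. -/
theorem correct {q : ℕ} (hq : q.Prime) {U P : Subgroup G} (hK : ¬ q * q ∣ Nat.card ↥(cent U))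
    (hP : Nat.card P = q) (hPU : P ≤ cent U) {g : G} (hg : g ∈ norm' U) :
    ∃ c ∈ cent U, c * g ∈ norm' U ∧ c * g ∈ norm' P := by
  have hle : cj g P ≤ cent U := fun x hx => by
    refine mem_cent_of_commute fun u hu => ?_
    have h1 := commute_of_mem_cent (hPU (mem_cj.1 hx)) ((Subgroup.mem_normalizer_iff''.1 hg u).1 hu)
    calc x * u = g * (g⁻¹ * x * g * (g⁻¹ * u * g)) * g⁻¹ := by group
      _ = u * x := by rw [h1.eq]; group
  obtain ⟨c, hc, e⟩ := conj_in hq hK hle hPU (by rw [card_cj, hP]) hP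
  refine ⟨c, hc, mul_mem (cent_le_norm U hc) hg, mem_norm_iff.2 ?_⟩
  have e2 : cj (c * g) P = cj c (cj g P) := by
    ext x
    simp only [mem_cj, mul_inv_rev, mul_assoc]
  rw [e2, e]

/-- An element of order `r` normalising both subgroups. -/
theorem exists_both {q r : ℕ} (hq : q.Prime) (hr : r.Prime) {U P : Subgroup G}
    (hK : ¬ q * q ∣ Nat.card ↥(cent U)) (hP : Nat.card P = q) (hPU : P ≤ cent U)
    (hre : r ∣ autCard U) (hrC : ¬ r ∣ Nat.card ↥(cent U)) :
    ∃ h : G, orderOf h = r ∧ h ∈ norm' U ∧ h ∈ norm' P ∧ h ∉ cent U := by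
  obtain ⟨g, hg, hgo, hgC⟩ := exists_mover hr hre hrC
  obtain ⟨c, hc, hdU, hdP⟩ := correct hq hK hP hPU hg
  set d := c * g with hd
  let ψ : ↥(norm' U) →* MulAut U := U.normalizerMonoidHom
  have hker : ∀ x : ↥(norm' U), ψ x = 1 ↔ (x : G) ∈ cent U := fun x => by
    rw [← MonoidHom.mem_ker, Subgroup.normalizerMonoidHom_ker, Subgroup.mem_subgroupOf]
  have e : ψ ⟨d, hdU⟩ = ψ ⟨g, hg⟩ := by
    rw [show (⟨d, hdU⟩ : ↥(norm' U)) = ⟨c, cent_le_norm U hc⟩ * ⟨g, hg⟩ from rfl, map_mul,
      (hker _).2 hc, one_mul]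
  have hne : ψ ⟨g, hg⟩ ≠ 1 := fun h => hgC ((hker _).1 h)
  have ho : orderOf (ψ ⟨g, hg⟩) = r := by
    haveI := Fact.mk hr
    refine orderOf_eq_prime ?_ hne
    rw [← map_pow]
    convert map_one ψ
    exact Subtype.ext (by show g ^ r = 1; rw [← hgo, pow_orderOf_eq_one])
  have hdvd : r ∣ orderOf d := by
    have := orderOf_map_dvd ψ (⟨d, hdU⟩ : ↥(norm' U))
    rwa [e, ho, Subgroup.orderOf_mk] at this
  have hd0 : orderOf d ≠ 0 := (orderOf_pos d).ne'
  refine ⟨d ^ (orderOf d / r), orderOf_pow_orderOf_div hd0 hdvd, pow_mem hdU _, pow_mem hdP _, fun hC => hrC ?_⟩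
  have := orderOf_dvd_natCard (⟨_, hC⟩ : cent U)
  rwa [Subgroup.orderOf_mk, orderOf_pow_orderOf_div hd0 hdvd] at this

/-- If a prime `r` divides the automiser of `U` and not its centraliser nor `q - 1`, a subgroup of order `q`
in the centraliser of `U` is centralised by an element of order `r`. -/
theorem exists_centralising {q r : ℕ} (hq : q.Prime) (hr : r.Prime) (hrq : ¬ r ∣ q - 1) {U P : Subgroup G}
    (hK : ¬ q * q ∣ Nat.card ↥(cent U)) (hP : Nat.card P = q) (hPU : P ≤ cent U)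
    (hre : r ∣ autCard U) (hrC : ¬ r ∣ Nat.card ↥(cent U)) :
    ∃ g : G, orderOf g = r ∧ g ∈ norm' U ∧ g ∉ cent U ∧ g ∈ cent P := by
  obtain ⟨h, ho, hU, hPn, hC⟩ := exists_both hq hr hK hP hPU hre hrC
  exact ⟨h, ho, hU, hC, mem_cent_of_commute fun x hx =>
    commute_of_norm hq hr hrq hP (ho ▸ pow_orderOf_eq_one h) hPn hx⟩

theorem autCard_cj (g : G) (U : Subgroup G) : autCard (cj g U) = autCard U := by
  have h1 := card_norm (cj g U)
  rw [card_cent_cj, show Nat.card ↥(norm' (cj g U)) = Nat.card ↥(norm' U) from ?_, card_norm U] at h1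
  · exact (Nat.eq_of_mul_eq_mul_left Nat.card_pos h1).symm
  · rw [← card_cj g (norm' U)]
    congr 1
    exact congrArg (fun H : Subgroup G => (H : Type _)) (Subgroup.map_equiv_normalizer_eq U (MulAut.conj g)).symm

/-- A prime dividing the automiser of a subgroup passes to a subgroup of order `p` centralising it. -/
theorem dvd_aut_of_dvd {p r : ℕ} (hp : p.Prime) (hr : r.Prime) {U P : Subgroup G}
    (hU : Nat.card U = p) (hUP : U ≤ cent P) (hK : ¬ p * p ∣ Nat.card ↥(cent P))
    (hre : r ∣ autCard P) (hrU : ¬ r ∣ Nat.card ↥(cent U)) : r ∣ autCard U := by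
  haveI := Fact.mk hr
  let ψ : ↥(norm' P) →* MulAut P := P.normalizerMonoidHom
  have hcard : autCard P = Nat.card ψ.range := by
    show ((cent P).subgroupOf (norm' P)).index = _
    rw [← Subgroup.normalizerMonoidHom_ker, Subgroup.index_ker]
  obtain ⟨⟨a, g, hga⟩, ha⟩ := exists_prime_orderOf_dvd_card' (G := ψ.range) r (hcard ▸ hre)
  rw [← Subgroup.orderOf_coe] at ha
  obtain ⟨c, hc, hdP, hdU⟩ := correct hp hK hU hUP g.2
  have e : ψ ⟨c * (g : G), hdP⟩ = a := by
    rw [show (⟨c * (g : G), hdP⟩ : ↥(norm' P)) = ⟨c, cent_le_norm P hc⟩ * g from rfl, map_mul, hga]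
    have : ψ ⟨c, cent_le_norm P hc⟩ = 1 := by
      rw [← MonoidHom.mem_ker, Subgroup.normalizerMonoidHom_ker, Subgroup.mem_subgroupOf]
      exact hc
    rw [this, one_mul]
  have h1 : r ∣ orderOf (c * (g : G)) := by
    have := orderOf_map_dvd ψ (⟨c * (g : G), hdP⟩ : ↥(norm' P))
    rwa [e, ha, Subgroup.orderOf_mk] at this
  have hd : r ∣ Nat.card ↥(norm' U) := h1.trans
    (Subgroup.orderOf_coe (⟨_, hdU⟩ : ↥(norm' U)) ▸ orderOf_dvd_natCard _)
  rw [card_norm] at hd
  exact (hr.dvd_mul.1 hd).resolve_left hrU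

/-- An element acting by squaring gives a divisor of the automiser. -/
theorem dvd_aut_of_square {p r : ℕ} (hr : r.Prime) (hr2 : 2 ^ r % p = 1) (hp : p.Prime) (hp3 : 2 < p)
    {x g : G} (hx : orderOf x = p) (h : g * x * g⁻¹ = x ^ 2) : r ∣ autCard (Subgroup.zpowers x) := by
  haveI := Fact.mk hr
  set U := Subgroup.zpowers x
  have hg : g ∈ norm' U := mem_norm_iff.2 (Subgroup.eq_of_le_of_card_ge (by
    show (Subgroup.zpowers x).map _ ≤ _
    rw [MonoidHom.map_zpowers, Subgroup.zpowers_le]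
    show g * x * g⁻¹ ∈ _
    rw [h]
    exact pow_mem (Subgroup.mem_zpowers x) 2) (by rw [card_cj]))
  let ψ : ↥(norm' U) →* MulAut U := U.normalizerMonoidHom
  set a := ψ ⟨g, hg⟩ with ha
  have key : ∀ i : ℕ, ((a ^ i) ⟨x, Subgroup.mem_zpowers x⟩ : G) = x ^ (2 ^ i) := by
    intro i
    induction i with
    | zero => simp
    | succ i ih =>
      rw [pow_succ', MulAut.mul_apply]
      show g * _ * g⁻¹ = _
      rw [ih, ← conj_pow, h, ← pow_mul, ← pow_succ']
  have h1 : a ≠ 1 := fun e => by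
    have := key 1
    rw [e, one_pow, pow_one] at this
    have h2 : x ^ 1 = x ^ 2 := by rw [pow_one]; exact this
    rw [pow_eq_pow_iff_modEq, hx, Nat.ModEq, Nat.mod_eq_of_lt (by omega), Nat.mod_eq_of_lt (by omega)] at h2
    omega
  have h2 : a ^ r = 1 := by
    refine MulEquiv.ext fun y => ?_
    obtain ⟨j, hj⟩ := Subgroup.mem_zpowers_iff.1 y.2
    have hy : y = (⟨x, Subgroup.mem_zpowers x⟩ : U) ^ j := Subtype.ext hj.symm
    rw [hy, map_zpow, MulAut.one_apply]
    congr 1
    refine Subtype.ext ?_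
    rw [key, ← pow_mod_orderOf, hx, hr2, pow_one]
  show r ∣ ((cent U).subgroupOf (norm' U)).index
  rw [← Subgroup.normalizerMonoidHom_ker, Subgroup.index_ker, ← orderOf_eq_prime h2 h1]
  have h3 := orderOf_dvd_natCard (⟨a, ⟨g, hg⟩, rfl⟩ : ψ.range)
  rwa [← Subgroup.orderOf_coe] at h3

/-- The congruence for a Sylow subgroup of prime order. -/
theorem sylow_congr {p : ℕ} (hp : p.Prime) (hp2 : ¬ p * p ∣ Nat.card G) {U : Subgroup G} (hU : Nat.card U = p) :
    ∃ c, Nat.card ↥(cent U) = p * c ∧ c * autCard U ∣ Nat.card G / p ∧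
      (c * autCard U) % p = (Nat.card G / p) % p := by
  haveI := Fact.mk hp
  obtain ⟨c, hc⟩ : p ∣ Nat.card ↥(cent U) := hU ▸ Subgroup.card_dvd_of_le (comm_of_prime_card hp hU)
  have hf : (Nat.card G).factorization p = 1 := by
    have h2 := (hp.dvd_iff_one_le_factorization Nat.card_pos.ne').1 (hU ▸ U.card_subgroup_dvd_card)
    by_contra h3
    exact hp2 ((pow_two p) ▸ (hp.pow_dvd_iff_le_factorization Nat.card_pos.ne').2 (by omega))
  let S : Sylow p G := Sylow.ofCard U (by rw [hf, pow_one, hU])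
  have h1 := card_sylow_modEq_one p G
  have h2 : Nat.card (Sylow p G) = (norm' U).index := Sylow.card_eq_index_normalizer S
  have h3 := (norm' U).card_mul_index
  rw [card_norm, hc, ← h2] at h3
  have h4 : Nat.card G / p = c * autCard U * Nat.card (Sylow p G) := by
    rw [← h3, show p * c * autCard U * Nat.card (Sylow p G) = p * (c * autCard U * Nat.card (Sylow p G)) by ring,
      Nat.mul_div_cancel_left _ hp.pos]
  refine ⟨c, hc, h4 ▸ dvd_mul_right _ _, ?_⟩
  rw [h4]
  have := h1.mul_left (c * autCard U)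
  rw [mul_one] at this
  exact this.symm

end CfsgLib.JankoFourLocals
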