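import Mathlib.Data.Nat.Prime.Basic
import Mathlib.NumberTheory.Divisors
import Mathlib.Algebra.Order.BigOperators.Group.List

/-!
The arithmetic of the Sylow normalisers for the large primes in a group of Janko-four order (owner: helper8).
-/

set_option autoImplicit false
set_option maxRecDepth 100000

namespace CfsgLib.JankoFourLocals

/-- The order. -/
def ord4 : ℕ := 2 ^ 21 * 3 ^ 3 * 5 * 7 * 11 ^ 3 * 23 * 29 * 31 * 37 * 43

/-- The divisors of a product of prime powers. -/
def divList : List (ℕ × ℕ) → List ℕ
  | [] => [1]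
  | (q, k) :: l => (List.range (k + 1)).flatMap fun i => (divList l).map (q ^ i * ·)

/-- The product of prime powers. -/
def ppProd : List (ℕ × ℕ) → ℕ
  | [] => 1
  | (q, k) :: l => q ^ k * ppProd l

theorem mem_divList : ∀ {l : List (ℕ × ℕ)} {c : ℕ}, (∀ qk ∈ l, qk.1.Prime) → c ∣ ppProd l → c ∈ divList l
  | [], c, _, hc => by simpa [divList, ppProd] using hc
  | (q, k) :: l, c, hp, hc => by
    obtain ⟨x, y, hx, hy, rfl⟩ := (Nat.dvd_mul.1 hc)
    obtain ⟨i, hi, rfl⟩ := (Nat.dvd_prime_pow (hp (q, k) List.mem_cons_self)).1 hx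
    simp only [divList, List.mem_flatMap, List.mem_range, List.mem_map]
    exact ⟨i, Nat.lt_succ_of_le hi, y, mem_divList (fun a ha => hp a (List.mem_cons_of_mem _ ha)) hy, rfl⟩

/-- The five large primes. -/
def bigs : List ℕ := [23, 29, 31, 37, 43]

/-- What a pair `(c, e)` = (centraliser modulo the prime, automiser) must satisfy. -/
def allowed (p f : ℕ) (iso : List ℕ) (c e : ℕ) : Bool :=
  (c * e) % p == (ord4 / p) % p && (ord4 / p) % (c * e) == 0 && (p - 1) % e == 0 && e % f == 0 &&
  (iso.all fun q => !(c % q == 0)) && (!(c % 7 == 0) || e % 3 == 0) &&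
  (bigs.all fun q => q == p || !(c % q == 0) || ((!(e % 3 == 0) || (q - 1) % 3 == 0) &&
    (!(e % 5 == 0) || (q - 1) % 5 == 0)))

/-- The possible centralisers. -/
def centList (p : ℕ) : List ℕ := divList ((7, 1) :: (11, 3) :: (bigs.filter (· != p)).map fun q => (q, 1))

/-- All solutions are among the given ones. -/
def onlySols (p f : ℕ) (iso : List ℕ) (sols : List (ℕ × ℕ)) : Bool :=
  (centList p).all fun c => (List.range (p - 1)).all fun i =>
    !(allowed p f iso c (i + 1)) || sols.contains (c, i + 1)

theorem sols_thirtyone : onlySols 31 5 [] [(1, 10), (11, 15)] = true := by decide +kernel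

theorem sols_fortythree : onlySols 43 1 [31] [(1, 14)] = true := by decide +kernel

theorem sols_twentythree : onlySols 23 11 [31, 43] [(1, 22)] = true := by decide +kernel

theorem sols_thirtyseven : onlySols 37 1 [31, 43] [(1, 12)] = true := by decide +kernel

theorem sols_twentynine : onlySols 29 1 [23, 31, 37, 43] [(1, 28)] = true := by decide +kernel

/-- No centraliser of an element of order eleven of a centraliser of a group of order 31. -/
theorem no_eleven : (divList [(2, 21), (3, 1), (7, 1), (11, 3), (31, 1)]).all (fun m =>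
    !(m % 1023 == 0 && m % 121 == 0 && (m / 1023) % 31 == 1)) = true := by decide +kernel

end CfsgLib.JankoFourLocals
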