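import Cfsg.Agent.Lib.JankoFourLocals.Arith
import Cfsg.Agent.Lib.JankoFourLocals.Sylow
import Mathlib.Tactic.NormNum.Prime

/-!
The normalisers of the Sylow subgroups for the five large primes, from the order and a few facts on
centralisers of elements of small order (owner: helper8).
-/

set_option autoImplicit false

namespace CfsgLib.JankoFourLocals

variable {G : Type*} [Group G] [Finite G]

/-- What is used about a group of Janko-four order. -/
structure Facts (G : Type*) [Group G] : Prop where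
  card : Nat.card G = ord4
  inv : ∀ i : G, orderOf i = 2 → ∀ p ∈ bigs, ¬ p ∣ Nat.card ↥(Subgroup.centralizer ({i} : Set G))
  three : ∀ a : G, orderOf a = 3 → ∀ p ∈ bigs, ¬ p ∣ Nat.card ↥(Subgroup.centralizer ({a} : Set G))
  five : ∀ f : G, orderOf f = 5 → ∀ p ∈ 11 :: bigs, ¬ p ∣ Nat.card ↥(Subgroup.centralizer ({f} : Set G))
  three_eleven : ∀ x : G, orderOf x = 11 → ¬ 9 ∣ Nat.card ↥(Subgroup.centralizer ({x} : Set G))
  seven : ∃ y g : G, orderOf y = 7 ∧ g * y * g⁻¹ = y ^ 2
  twentythree : ∃ y g : G, orderOf y = 23 ∧ g * y * g⁻¹ = y ^ 2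
  thirtyone : ∃ y g : G, orderOf y = 31 ∧ g * y * g⁻¹ = y ^ 2

theorem big_prime {p : ℕ} (hp : p ∈ bigs) : p.Prime ∧ 5 < p := by
  simp only [bigs, List.mem_cons, List.not_mem_nil, or_false] at hp
  rcases hp with rfl | rfl | rfl | rfl | rfl <;> norm_num

theorem big_facts {p : ℕ} (hp : p ∈ bigs) : p ∣ ord4 ∧ ¬ p * p ∣ ord4 ∧
    ord4 / p = 2 ^ 21 * 3 ^ 3 * 5 * ppProd ((7, 1) :: (11, 3) :: (bigs.filter (· != p)).map fun q => (q, 1)) := by
  simp only [bigs, List.mem_cons, List.not_mem_nil, or_false] at hp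
  rcases hp with rfl | rfl | rfl | rfl | rfl <;> decide +kernel

namespace Facts

variable (F : Facts G)
include F

theorem sq_not {p : ℕ} (hp : p ∈ bigs) : ¬ p * p ∣ Nat.card G := F.card ▸ (big_facts hp).2.1

theorem sq_not' {p : ℕ} (hp : p ∈ bigs) (K : Subgroup G) : ¬ p * p ∣ Nat.card ↥K := fun h =>
  F.sq_not hp (h.trans K.card_subgroup_dvd_card)

theorem cent_elem {U : Subgroup G} {q : ℕ} (hq : q.Prime) (hqC : q ∣ Nat.card ↥(cent U)) :
    ∃ g : G, orderOf g = q ∧ U ≤ Subgroup.centralizer ({g} : Set G) := by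
  haveI := Fact.mk hq
  obtain ⟨g, hg⟩ := exists_prime_orderOf_dvd_card' q hqC
  refine ⟨g, by rw [Subgroup.orderOf_coe, hg], fun u hu => ?_⟩
  exact Subgroup.mem_centralizer_singleton_iff.2 (commute_of_mem_cent g.2 hu).eq.symm

theorem no_small {p : ℕ} (hp : p ∈ bigs) {U : Subgroup G} (hU : Nat.card U = p) {q : ℕ}
    (hq : q = 2 ∨ q = 3 ∨ q = 5) : ¬ q ∣ Nat.card ↥(cent U) := by
  intro hd
  obtain ⟨g, hg, hle⟩ := F.cent_elem (by rcases hq with rfl | rfl | rfl <;> norm_num) hd
  have h1 := hU ▸ Subgroup.card_dvd_of_le hle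
  rcases hq with rfl | rfl | rfl
  exacts [F.inv g hg p hp h1, F.three g hg p hp h1, F.five g hg p (List.mem_cons_of_mem _ hp) h1]

theorem seven_aut {Y : Subgroup G} (hY : Nat.card Y = 7) : 3 ∣ autCard Y := by
  obtain ⟨y, g, hy, hg⟩ := F.seven
  have h1 := dvd_aut_of_square (p := 7) Nat.prime_three (by norm_num) (by norm_num) (by norm_num) hy hg
  obtain ⟨c, -, hc⟩ := conj_in (q := 7) (by norm_num) (K := ⊤) (P := Subgroup.zpowers y) (P' := Y)
    (by rw [Subgroup.card_top, F.card]; decide +kernel) le_top le_top (by rw [Nat.card_zpowers, hy]) hY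
  rw [← hc, autCard_cj]
  exact h1

/-- The two unknowns satisfy all conditions. -/
theorem pair {p f : ℕ} {iso : List ℕ} {sols : List (ℕ × ℕ)} (hS : onlySols p f iso sols = true) (hp : p ∈ bigs)
    {U : Subgroup G} (hU : Nat.card U = p) (hf : f ∣ autCard U)
    (hiso : ∀ q ∈ iso, ¬ q ∣ Nat.card ↥(cent U)) :
    ∃ c, Nat.card ↥(cent U) = p * c ∧ (c, autCard U) ∈ sols := by
  obtain ⟨hpp, hp5⟩ := big_prime hp
  obtain ⟨c, hc, hdvd, hmod⟩ := sylow_congr hpp (F.sq_not hp) hU
  refine ⟨c, hc, ?_⟩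
  rw [F.card] at hdvd hmod
  have hcd : c ∣ Nat.card ↥(cent U) := ⟨p, by rw [hc, mul_comm]⟩
  have hmem : c ∈ centList p := by
    refine mem_divList ?_ ?_
    · intro qk hqk
      simp only [List.mem_cons, List.mem_map, List.mem_filter] at hqk
      rcases hqk with rfl | rfl | ⟨q, ⟨hq, -⟩, rfl⟩
      exacts [by norm_num, by norm_num, (big_prime hq).1]
    · have h0 : c ∣ ord4 / p := (dvd_mul_right _ _).trans hdvd
      rw [(big_facts hp).2.2] at h0
      refine Nat.Coprime.dvd_of_dvd_mul_left ?_ h0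
      have ns : ∀ q, q = 2 ∨ q = 3 ∨ q = 5 → c.Coprime q := fun q hq =>
        (((by rcases hq with rfl | rfl | rfl <;> norm_num : q.Prime)).coprime_iff_not_dvd.2 fun h =>
          F.no_small hp hU hq (h.trans hcd)).symm
      exact (((ns 2 (Or.inl rfl)).pow_right 21).mul_right ((ns 3 (Or.inr (Or.inl rfl))).pow_right 3)).mul_right
        (ns 5 (Or.inr (Or.inr rfl)))
  have hall : allowed p f iso c (autCard U) = true := by
    simp only [allowed, Bool.and_eq_true, beq_iff_eq, List.all_eq_true, Bool.or_eq_true, Bool.not_eq_true',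
      beq_eq_false_iff_ne]
    refine ⟨⟨⟨⟨⟨⟨hmod, Nat.mod_eq_zero_of_dvd hdvd⟩, Nat.mod_eq_zero_of_dvd (autCard_dvd hpp hU)⟩,
      Nat.mod_eq_zero_of_dvd hf⟩, fun q hq h => hiso q hq ((Nat.dvd_of_mod_eq_zero h).trans hcd)⟩, ?_⟩, ?_⟩
    · rcases eq_or_ne (c % 7) 0 with h7 | h7
      · right
        haveI : Fact (Nat.Prime 7) := ⟨by norm_num⟩
        obtain ⟨y, hy⟩ := exists_prime_orderOf_dvd_card' 7 ((Nat.dvd_of_mod_eq_zero h7).trans hcd)
        have hyU : Subgroup.zpowers (y : G) ≤ cent U := Subgroup.zpowers_le.2 y.2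
        have hY : Nat.card ↥(Subgroup.zpowers (y : G)) = 7 := by rw [Nat.card_zpowers, Subgroup.orderOf_coe, hy]
        exact Nat.mod_eq_zero_of_dvd (dvd_aut_of_dvd hpp Nat.prime_three hU
          (fun u hu => mem_cent_of_commute fun v hv => (commute_of_mem_cent (hyU hv) hu).symm)
          (F.sq_not' hp _) (F.seven_aut hY) (F.no_small hp hU (Or.inr (Or.inl rfl))))
      · exact Or.inl h7
    · intro q hq
      obtain ⟨hqp, hq5⟩ := big_prime hq
      rcases eq_or_ne (c % q) 0 with hcq | hcq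
      swap
      · exact Or.inl (Or.inr hcq)
      right
      haveI : Fact q.Prime := ⟨hqp⟩
      obtain ⟨w, hw⟩ := exists_prime_orderOf_dvd_card' q ((Nat.dvd_of_mod_eq_zero hcq).trans hcd)
      have hW : Nat.card ↥(Subgroup.zpowers (w : G)) = q := by rw [Nat.card_zpowers, Subgroup.orderOf_coe, hw]
      have key : ∀ r, r = 3 ∨ r = 5 → r ∣ autCard U → (q - 1) % r = 0 := by
        intro r hr hre
        have hrp : r.Prime := by rcases hr with rfl | rfl <;> norm_num
        by_contra hne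
        obtain ⟨g, hg, -, -, hgP⟩ := exists_centralising hqp hrp (fun h => hne (Nat.mod_eq_zero_of_dvd h))
          (F.sq_not' hq _) hW (Subgroup.zpowers_le.2 w.2) hre (F.no_small hp hU (Or.inr hr))
        have hd : q ∣ Nat.card ↥(Subgroup.centralizer ({g} : Set G)) := by
          rw [← hW]
          exact Subgroup.card_dvd_of_le fun v hv =>
            Subgroup.mem_centralizer_singleton_iff.2 (commute_of_mem_cent hgP hv).eq.symm
        rcases hr with rfl | rfl
        exacts [F.three g hg q hq hd, F.five g hg q (List.mem_cons_of_mem _ hq) hd]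
      refine ⟨?_, ?_⟩
      · by_cases h : autCard U % 3 = 0
        exacts [Or.inr (key 3 (Or.inl rfl) (Nat.dvd_of_mod_eq_zero h)), Or.inl h]
      · by_cases h : autCard U % 5 = 0
        exacts [Or.inr (key 5 (Or.inr rfl) (Nat.dvd_of_mod_eq_zero h)), Or.inl h]
  have he : autCard U ≠ 0 := fun e => by
    have := autCard_dvd hpp hU
    rw [e, zero_dvd_iff] at this
    omega
  have hle : autCard U ≤ p - 1 := Nat.le_of_dvd (by omega) (autCard_dvd hpp hU)
  have h1 := List.all_eq_true.1 (List.all_eq_true.1 hS c hmem) (autCard U - 1) (List.mem_range.2 (by omega))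
  rw [Nat.sub_add_cancel (by omega), hall] at h1
  simpa using h1

theorem not_cent_of_iso {p q : ℕ} (hp : p ∈ bigs) (hq : q ∈ bigs) (hne : p ≠ q)
    (hiso : ∀ V : Subgroup G, Nat.card V = q → ¬ p ∣ Nat.card ↥(cent V)) {U : Subgroup G} (hU : Nat.card U = p) :
    ¬ q ∣ Nat.card ↥(cent U) := by
  intro hd
  haveI : Fact q.Prime := ⟨(big_prime hq).1⟩
  obtain ⟨g, hg⟩ := exists_prime_orderOf_dvd_card' q hd
  refine hiso (Subgroup.zpowers (g : G)) (by rw [Nat.card_zpowers, Subgroup.orderOf_coe, hg]) ?_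
  rw [← hU]
  refine Subgroup.card_dvd_of_le fun u hu => mem_cent_of_commute fun v hv => ?_
  exact (commute_of_mem_cent (Subgroup.zpowers_le.2 g.2 hv) hu).symm

theorem aut_thirtyone {U : Subgroup G} (hU : Nat.card U = 31) : 5 ∣ autCard U := by
  obtain ⟨y, g, hy, hg⟩ := F.thirtyone
  have h1 := dvd_aut_of_square (p := 31) Nat.prime_five (by norm_num) (by norm_num) (by norm_num) hy hg
  obtain ⟨c, -, hc⟩ := conj_in (q := 31) (by norm_num) (K := ⊤) (P := Subgroup.zpowers y) (P' := U)
    (by rw [Subgroup.card_top, F.card]; decide +kernel) le_top le_top (by rw [Nat.card_zpowers, hy]) hU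
  rw [← hc, autCard_cj]
  exact h1

theorem aut_twentythree {U : Subgroup G} (hU : Nat.card U = 23) : 11 ∣ autCard U := by
  obtain ⟨y, g, hy, hg⟩ := F.twentythree
  have h1 := dvd_aut_of_square (p := 23) (r := 11) (by norm_num) (by norm_num) (by norm_num) (by norm_num) hy hg
  obtain ⟨c, -, hc⟩ := conj_in (q := 23) (by norm_num) (K := ⊤) (P := Subgroup.zpowers y) (P' := U)
    (by rw [Subgroup.card_top, F.card]; decide +kernel) le_top le_top (by rw [Nat.card_zpowers, hy]) hU
  rw [← hc, autCard_cj]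
  exact h1

theorem thirtyone_iso {U : Subgroup G} (hU : Nat.card U = 31) {q : ℕ} (hq : q ∈ bigs) (hne : q ≠ 31) :
    ¬ q ∣ Nat.card ↥(cent U) := by
  obtain ⟨c, hc, hs⟩ := F.pair sols_thirtyone (by decide) hU (F.aut_thirtyone hU) (by simp)
  rw [hc]
  simp only [List.mem_cons, Prod.mk.injEq, List.not_mem_nil, or_false] at hs
  simp only [bigs, List.mem_cons, List.not_mem_nil, or_false] at hq
  rcases hq with rfl | rfl | rfl | rfl | rfl <;> rcases hs with ⟨rfl, -⟩ | ⟨rfl, -⟩ <;>
    first | exact absurd rfl hne | norm_num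

theorem fortythree {U : Subgroup G} (hU : Nat.card U = 43) : Nat.card ↥(cent U) = 43 ∧ autCard U = 14 := by
  obtain ⟨c, hc, hs⟩ := F.pair sols_fortythree (by decide) hU (one_dvd _) (by
    intro q hq
    rw [List.mem_singleton] at hq
    subst hq
    exact F.not_cent_of_iso (by decide) (by decide) (by norm_num)
      (fun V hV => F.thirtyone_iso hV (by decide) (by norm_num)) hU)
  simp only [List.mem_singleton, Prod.mk.injEq] at hs
  exact ⟨by rw [hc, hs.1], hs.2⟩

theorem not_31_43 {p : ℕ} (hp : p ∈ bigs) (h31 : p ≠ 31) (h43 : p ≠ 43) {U : Subgroup G} (hU : Nat.card U = p) :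
    ∀ q, q = 31 ∨ q = 43 → ¬ q ∣ Nat.card ↥(cent U) := by
  rintro q (rfl | rfl)
  · exact F.not_cent_of_iso hp (by decide) h31 (fun V hV => F.thirtyone_iso hV hp h31) hU
  · refine F.not_cent_of_iso hp (by decide) h43 (fun V hV hd => h43 ?_) hU
    rw [(F.fortythree hV).1] at hd
    exact ((Nat.prime_dvd_prime_iff_eq (big_prime hp).1 (by norm_num)).1 hd)

theorem twentythree' {U : Subgroup G} (hU : Nat.card U = 23) : Nat.card ↥(cent U) = 23 ∧ autCard U = 22 := by
  obtain ⟨c, hc, hs⟩ := F.pair sols_twentythree (by decide) hU (F.aut_twentythree hU) (fun q hq =>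
    F.not_31_43 (by decide) (by norm_num) (by norm_num) hU q (by simpa using hq))
  simp only [List.mem_singleton, Prod.mk.injEq] at hs
  exact ⟨by rw [hc, hs.1], hs.2⟩

theorem thirtyseven {U : Subgroup G} (hU : Nat.card U = 37) : Nat.card ↥(cent U) = 37 ∧ autCard U = 12 := by
  obtain ⟨c, hc, hs⟩ := F.pair sols_thirtyseven (by decide) hU (one_dvd _) (fun q hq =>
    F.not_31_43 (by decide) (by norm_num) (by norm_num) hU q (by simpa using hq))
  simp only [List.mem_singleton, Prod.mk.injEq] at hs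
  exact ⟨by rw [hc, hs.1], hs.2⟩

theorem twentynine {U : Subgroup G} (hU : Nat.card U = 29) : Nat.card ↥(cent U) = 29 ∧ autCard U = 28 := by
  obtain ⟨c, hc, hs⟩ := F.pair sols_twentynine (by decide) hU (one_dvd _) (fun q hq => by
    simp only [List.mem_cons, List.not_mem_nil, or_false] at hq
    rcases hq with rfl | rfl | rfl | rfl
    · refine F.not_cent_of_iso (by decide) (by decide) (by norm_num) (fun V hV hd => ?_) hU
      rw [(F.twentythree' hV).1] at hd
      norm_num at hd
    · exact F.not_31_43 (by decide) (by norm_num) (by norm_num) hU _ (Or.inl rfl)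
    · refine F.not_cent_of_iso (by decide) (by decide) (by norm_num) (fun V hV hd => ?_) hU
      rw [(F.thirtyseven hV).1] at hd
      norm_num at hd
    · exact F.not_31_43 (by decide) (by norm_num) (by norm_num) hU _ (Or.inr rfl))
  simp only [List.mem_singleton, Prod.mk.injEq] at hs
  exact ⟨by rw [hc, hs.1], hs.2⟩

/-- The centraliser of an element of order eleven contains a subgroup of order `11 ^ 2`. -/
theorem eleven_sq {x : G} (hx : orderOf x = 11) : 121 ∣ Nat.card ↥(Subgroup.centralizer ({x} : Set G)) := by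
  haveI : Fact (Nat.Prime 11) := ⟨by norm_num⟩
  have hX : IsPGroup 11 (Subgroup.zpowers x) := IsPGroup.of_card (n := 1) (by rw [Nat.card_zpowers, hx, pow_one])
  obtain ⟨S, hS⟩ := hX.exists_le_sylow
  have hxS : x ∈ (S : Subgroup G) := hS (Subgroup.mem_zpowers x)
  have hcardS : Nat.card (S : Subgroup G) = 11 ^ 3 := by
    rw [S.card_eq_multiplicity, F.card]
    congr 1
    have h3 : 11 ^ 3 ∣ ord4 := by decide +kernel
    have h4 : ¬ 11 ^ 4 ∣ ord4 := by decide +kernel
    have hne : ord4 ≠ 0 := by decide +kernel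
    have a1 := ((by norm_num : Nat.Prime 11).pow_dvd_iff_le_factorization hne).1 h3
    have a2 : ¬ 4 ≤ ord4.factorization 11 := fun h =>
      h4 (((by norm_num : Nat.Prime 11).pow_dvd_iff_le_factorization hne).2 h)
    omega
  let xs : (S : Subgroup G) := ⟨x, hxS⟩
  have hle : (Subgroup.centralizer ({xs} : Set (S : Subgroup G))).map (S : Subgroup G).subtype ≤
      Subgroup.centralizer ({x} : Set G) := by
    rintro _ ⟨w, hw, rfl⟩
    exact Subgroup.mem_centralizer_singleton_iff.2 (congrArg Subtype.val (Subgroup.mem_centralizer_singleton_iff.1 hw))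
  refine dvd_trans ?_ (Subgroup.card_dvd_of_le hle)
  rw [Subgroup.card_map_of_injective Subtype.val_injective]
  obtain ⟨i, hi, hcard⟩ := (Nat.dvd_prime_pow (by norm_num : Nat.Prime 11)).1
    (hcardS ▸ (Subgroup.centralizer ({xs} : Set (S : Subgroup G))).card_subgroup_dvd_card)
  rw [hcard]
  refine Nat.pow_dvd_pow 11 (m := 2) ?_
  by_contra hlt
  haveI : Nontrivial (S : Subgroup G) :=
    ⟨⟨xs, 1, fun e => by rw [show x = 1 from congrArg Subtype.val e, orderOf_one] at hx; norm_num at hx⟩⟩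
  have hne : Subgroup.center ↥(S : Subgroup G) ≠ ⊥ := by
    have := S.2.center_nontrivial
    exact Subgroup.nontrivial_iff_ne_bot _ |>.1 this
  have hsub : Subgroup.zpowers xs ⊔ Subgroup.center ↥(S : Subgroup G) ≤ Subgroup.centralizer ({xs} : Set _) :=
    sup_le (Subgroup.zpowers_le.2 (Subgroup.mem_centralizer_singleton_iff.2 rfl))
      (fun w hw => Subgroup.mem_centralizer_singleton_iff.2 (Subgroup.mem_center_iff.1 hw xs).symm)
  have ho : Nat.card ↥(Subgroup.zpowers xs) = 11 := by rw [Nat.card_zpowers, ← Subgroup.orderOf_coe]; exact hx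
  have hle11 : Nat.card ↥(Subgroup.centralizer ({xs} : Set (S : Subgroup G))) ≤ 11 := by
    rw [hcard]
    calc (11 : ℕ) ^ i ≤ 11 ^ 1 := Nat.pow_le_pow_right (by norm_num) (by omega)
      _ = 11 := pow_one _
  have heq : Subgroup.zpowers xs = Subgroup.centralizer ({xs} : Set (S : Subgroup G)) :=
    Subgroup.eq_of_le_of_card_ge (le_sup_left.trans hsub) (by omega)
  have hZ : Subgroup.center ↥(S : Subgroup G) ≤ Subgroup.zpowers xs := (le_sup_right.trans hsub).trans heq.ge
  have hxc : Subgroup.center ↥(S : Subgroup G) = Subgroup.zpowers xs := by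
    rcases (Nat.dvd_prime (by norm_num : Nat.Prime 11)).1 (ho ▸ Subgroup.card_dvd_of_le hZ) with h | h
    · exact absurd (Subgroup.card_eq_one.1 h) hne
    · exact Subgroup.eq_of_le_of_card_ge hZ (by omega)
  have htop : Subgroup.centralizer ({xs} : Set (S : Subgroup G)) = ⊤ := by
    rw [eq_top_iff]
    intro w _
    exact Subgroup.mem_centralizer_singleton_iff.2
      (Subgroup.mem_center_iff.1 (hxc.ge (Subgroup.mem_zpowers xs)) w)
  rw [htop, Subgroup.card_top, hcardS] at hle11
  norm_num at hle11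

theorem thirtyone' {U : Subgroup G} (hU : Nat.card U = 31) : Nat.card ↥(cent U) = 31 ∧ autCard U = 10 := by
  obtain ⟨c, hc, hs⟩ := F.pair sols_thirtyone (by decide) hU (F.aut_thirtyone hU) (by simp)
  simp only [List.mem_cons, Prod.mk.injEq, List.not_mem_nil, or_false] at hs
  rcases hs with ⟨rfl, he⟩ | ⟨rfl, he⟩
  · exact ⟨by rw [hc], he⟩
  exfalso
  haveI : Fact (Nat.Prime 11) := ⟨by norm_num⟩
  haveI : Fact (Nat.Prime 31) := ⟨by norm_num⟩
  obtain ⟨x, hx⟩ := exists_prime_orderOf_dvd_card' 11 (hc ▸ dvd_mul_left 11 31 : 11 ∣ Nat.card ↥(cent U))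
  have hx' : orderOf (x : G) = 11 := by rw [Subgroup.orderOf_coe, hx]
  set P := Subgroup.zpowers (x : G) with hP
  have hPc : Nat.card P = 11 := by rw [hP, Nat.card_zpowers, hx']
  obtain ⟨a, ha, haN, haC, haP⟩ := exists_centralising (q := 11) (r := 3) (by norm_num) Nat.prime_three
    (by norm_num) (by rw [hc]; norm_num) hPc (Subgroup.zpowers_le.2 x.2) (he ▸ (by norm_num : 3 ∣ 15))
    (by rw [hc]; norm_num)
  set K := Subgroup.centralizer ({(x : G)} : Set G) with hK
  have hUK : U ≤ K := fun u hu => Subgroup.mem_centralizer_singleton_iff.2 (commute_of_mem_cent x.2 hu).eq.symm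
  have haK : a ∈ K := Subgroup.mem_centralizer_singleton_iff.2
    (commute_of_mem_cent haP (Subgroup.mem_zpowers (x : G))).eq
  have hCK : cent U ≤ K := by
    have h1 : Subgroup.zpowers (x : G) ⊔ U ≤ cent U ⊓ K := sup_le
      (Subgroup.zpowers_le.2 ⟨x.2, Subgroup.mem_centralizer_singleton_iff.2 rfl⟩)
      (le_inf (comm_of_prime_card (by norm_num) hU) hUK)
    have h2 : cent U ⊓ K = cent U := by
      refine Subgroup.eq_of_le_of_card_ge inf_le_left ?_
      have a1 : 11 ∣ Nat.card ↥(cent U ⊓ K) := hPc ▸ Subgroup.card_dvd_of_le (le_sup_left.trans h1)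
      have a2 : 31 ∣ Nat.card ↥(cent U ⊓ K) := hU ▸ Subgroup.card_dvd_of_le (le_sup_right.trans h1)
      have := Nat.le_of_dvd Nat.card_pos (Nat.Coprime.mul_dvd_of_dvd_of_dvd (by norm_num : Nat.Coprime 31 11) a2 a1)
      rw [hc]
      exact this
    exact h2 ▸ inf_le_right
  set m := Nat.card ↥K with hm
  have h2 : ¬ 5 ∣ m := fun h => by
    haveI : Fact (Nat.Prime 5) := ⟨Nat.prime_five⟩
    obtain ⟨f, hf⟩ := exists_prime_orderOf_dvd_card' 5 h
    refine F.five (f : G) (by rw [Subgroup.orderOf_coe, hf]) 11 List.mem_cons_self ?_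
    rw [← hPc]
    exact Subgroup.card_dvd_of_le (Subgroup.zpowers_le.2
      (Subgroup.mem_centralizer_singleton_iff.2 (Subgroup.mem_centralizer_singleton_iff.1 f.2).symm))
  have hbig : ∀ q ∈ bigs, q ≠ 31 → ¬ q ∣ m := fun q hq hne h => by
    haveI : Fact q.Prime := ⟨(big_prime hq).1⟩
    obtain ⟨w, hw⟩ := exists_prime_orderOf_dvd_card' q h
    have hW : Nat.card ↥(Subgroup.zpowers (w : G)) = q := by rw [Nat.card_zpowers, Subgroup.orderOf_coe, hw]
    have hd : 11 ∣ Nat.card ↥(cent (Subgroup.zpowers (w : G))) := by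
      rw [← hPc]
      refine Subgroup.card_dvd_of_le (Subgroup.zpowers_le.2 (mem_cent_of_commute fun v hv => ?_))
      obtain ⟨j, rfl⟩ := Subgroup.mem_zpowers_iff.1 hv
      exact Commute.zpow_right (Subgroup.mem_centralizer_singleton_iff.1 w.2).symm j
    have h4 : Nat.card ↥(cent (Subgroup.zpowers (w : G))) = q := by
      have : q = 23 ∨ q = 29 ∨ q = 37 ∨ q = 43 := by
        simp only [bigs, List.mem_cons, List.not_mem_nil, or_false] at hq
        omega
      rcases this with rfl | rfl | rfl | rfl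
      exacts [(F.twentythree' hW).1, (F.twentynine hW).1, (F.thirtyseven hW).1, (F.fortythree hW).1]
    rw [h4] at hd
    have := (Nat.prime_dvd_prime_iff_eq (by norm_num) (big_prime hq).1).1 hd
    subst this
    exact absurd hq (by decide)
  have hmem : m ∈ divList [(2, 21), (3, 1), (7, 1), (11, 3), (31, 1)] := by
    refine mem_divList (by simp only [List.mem_cons, List.not_mem_nil, or_false]; rintro _ (rfl | rfl | rfl | rfl | rfl) <;> norm_num) ?_
    have h3 : m.Coprime 3 ∨ ∃ m', m = 3 * m' ∧ m'.Coprime 3 := by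
      by_cases h : 3 ∣ m
      · obtain ⟨m', hm'⟩ := h
        refine Or.inr ⟨m', hm', (Nat.prime_three.coprime_iff_not_dvd.2 fun h' => ?_).symm⟩
        exact F.three_eleven _ hx' (show 9 ∣ m from hm'.symm ▸ Nat.mul_dvd_mul_left 3 h')
      · exact Or.inl (Nat.prime_three.coprime_iff_not_dvd.2 h).symm
    have h0 : m ∣ ord4 := F.card ▸ K.card_subgroup_dvd_card
    have cop : ∀ q, Nat.Prime q → ¬ q ∣ m → m.Coprime q := fun q hq h => (hq.coprime_iff_not_dvd.2 h).symm
    have hsplit : ord4 = (9 * 5 * 23 * 29 * 37 * 43) * ppProd [(2, 21), (3, 1), (7, 1), (11, 3), (31, 1)] := by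
      decide +kernel
    have hc0 : m.Coprime (5 * 23 * 29 * 37 * 43) :=
      ((((cop 5 Nat.prime_five h2).mul_right (cop 23 (by norm_num) (hbig 23 (by decide) (by norm_num)))).mul_right
        (cop 29 (by norm_num) (hbig 29 (by decide) (by norm_num)))).mul_right
        (cop 37 (by norm_num) (hbig 37 (by decide) (by norm_num)))).mul_right
        (cop 43 (by norm_num) (hbig 43 (by decide) (by norm_num)))
    rcases h3 with h3 | ⟨m', hm', h3⟩
    · rw [hsplit, show (9 * 5 * 23 * 29 * 37 * 43 : ℕ) = 3 ^ 2 * (5 * 23 * 29 * 37 * 43) by norm_num] at h0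
      exact ((h3.pow_right 2).mul_right hc0).dvd_of_dvd_mul_left h0
    · have e : ord4 = 3 * ((3 ^ 2 * (5 * 23 * 29 * 37 * 43)) * (2 ^ 21 * 7 * 11 ^ 3 * 31)) := by decide +kernel
      rw [hm', e] at h0
      have hc' : m'.Coprime (5 * 23 * 29 * 37 * 43) := Nat.Coprime.coprime_dvd_left ⟨3, by rw [hm']; ring⟩ hc0
      have := ((h3.pow_right 2).mul_right hc').dvd_of_dvd_mul_left (Nat.dvd_of_mul_dvd_mul_left (by norm_num) h0)
      rw [hm', show ppProd [(2, 21), (3, 1), (7, 1), (11, 3), (31, 1)] = 3 * (2 ^ 21 * 7 * 11 ^ 3 * 31) by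
        decide +kernel]
      exact Nat.mul_dvd_mul_left 3 this
  have hN : Nat.card ↥(norm' U ⊓ K) = 1023 := by
    have hle : cent U ≤ norm' U ⊓ K := le_inf (cent_le_norm U) hCK
    have d1 : 341 ∣ Nat.card ↥(norm' U ⊓ K) := by
      have := Subgroup.card_dvd_of_le hle
      rwa [hc] at this
    have d2 : Nat.card ↥(norm' U ⊓ K) ∣ 341 * 15 := by
      have := Subgroup.card_dvd_of_le (inf_le_left : norm' U ⊓ K ≤ norm' U)
      rwa [card_norm, hc, he] at this
    have d3 : 3 ∣ Nat.card ↥(norm' U ⊓ K) := by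
      rw [← ha, show a = ((⟨a, haN, haK⟩ : ↥(norm' U ⊓ K)) : G) from rfl, Subgroup.orderOf_coe]
      exact orderOf_dvd_natCard _
    have d4 : Nat.Coprime (Nat.card ↥(norm' U ⊓ K)) 5 :=
      (Nat.prime_five.coprime_iff_not_dvd.2 fun h => h2 (h.trans (Subgroup.card_dvd_of_le inf_le_right))).symm
    rw [show (341 * 15 : ℕ) = 1023 * 5 by norm_num] at d2
    exact Nat.dvd_antisymm (d4.dvd_of_dvd_mul_right d2)
      ((show (1023 : ℕ) = 3 * 341 by norm_num) ▸ Nat.Coprime.mul_dvd_of_dvd_of_dvd (by norm_num) d3 d1)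
  have hd : 1023 ∣ m := hN ▸ Subgroup.card_dvd_of_le inf_le_right
  have hcong : (m / 1023) % 31 = 1 := by
    have hf : (Nat.card ↥K).factorization 31 = 1 := by
      have h2' := ((by norm_num : Nat.Prime 31).dvd_iff_one_le_factorization Nat.card_pos.ne').1
        (hU ▸ Subgroup.card_dvd_of_le hUK)
      by_contra h3
      exact F.sq_not' (p := 31) (by decide) K
        (((by norm_num : Nat.Prime 31).pow_dvd_iff_le_factorization (k := 2) Nat.card_pos.ne').2 (by omega))
    let S : Sylow 31 K := Sylow.ofCard (U.subgroupOf K)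
      (by rw [hf, pow_one, Nat.card_congr (Subgroup.subgroupOfEquivOfLe hUK).toEquiv, hU])
    have h1 := card_sylow_modEq_one 31 K
    rw [Sylow.card_eq_index_normalizer S] at h1
    have h2' : Nat.card ↥(Subgroup.normalizer ((S : Subgroup K) : Set K)) = 1023 := by
      rw [← hN, show (S : Subgroup K) = U.subgroupOf K from rfl, ← Subgroup.subgroupOf_normalizer_eq hUK,
        ← Subgroup.inf_subgroupOf_right, Nat.card_congr (Subgroup.subgroupOfEquivOfLe inf_le_right).toEquiv]
    have h3 := (Subgroup.normalizer ((S : Subgroup K) : Set K)).card_mul_index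
    rw [h2', ← hm] at h3
    have h1' : (Subgroup.normalizer ((S : Subgroup K) : Set K)).index % 31 = 1 := h1
    omega
  have := List.all_eq_true.1 no_eleven m hmem
  simp only [Bool.not_eq_true', Bool.and_eq_false_iff, beq_eq_false_iff_ne] at this
  rcases this with (h | h) | h
  exacts [h (Nat.mod_eq_zero_of_dvd hd), h (Nat.mod_eq_zero_of_dvd (F.eleven_sq hx')), h hcong]

theorem eq_cent {p : ℕ} {U : Subgroup G} (hp : p.Prime) (hU : Nat.card U = p)
    (h : Nat.card ↥(cent U) = p) : cent U = U :=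
  (Subgroup.eq_of_le_of_card_ge (comm_of_prime_card hp hU) (by omega)).symm

/-- Self-centralising Sylow subgroups with the normalisers of the five large primes. -/
theorem normalisers {p e : ℕ} (hpe : (p, e) ∈ [(23, 22), (29, 28), (31, 10), (37, 12), (43, 14)])
    [Fact p.Prime] (U : Sylow p G) :
    cent (U : Subgroup G) = (U : Subgroup G) ∧ Nat.card ↥(norm' (U : Subgroup G)) = p * e := by
  have hp : p ∈ bigs := by
    simp only [List.mem_cons, Prod.mk.injEq, List.not_mem_nil, or_false] at hpe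
    simp only [bigs, List.mem_cons, List.not_mem_nil, or_false]
    omega
  have hU : Nat.card (U : Subgroup G) = p := by
    rw [U.card_eq_multiplicity, F.card]
    have h1 := (big_prime hp).1.dvd_iff_one_le_factorization (n := ord4) (by decide +kernel) |>.1 (big_facts hp).1
    by_cases h2 : 2 ≤ ord4.factorization p
    · exact absurd (pow_two p ▸ ((big_prime hp).1.pow_dvd_iff_le_factorization (by decide +kernel)).2 h2)
        (big_facts hp).2.1
    · rw [show ord4.factorization p = 1 by omega, pow_one]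
  simp only [List.mem_cons, Prod.mk.injEq, List.not_mem_nil, or_false] at hpe
  have key : Nat.card ↥(cent (U : Subgroup G)) = p ∧ autCard (U : Subgroup G) = e := by
    rcases hpe with ⟨rfl, rfl⟩ | ⟨rfl, rfl⟩ | ⟨rfl, rfl⟩ | ⟨rfl, rfl⟩ | ⟨rfl, rfl⟩
    exacts [F.twentythree' hU, F.twentynine hU, F.thirtyone' hU, F.thirtyseven hU, F.fortythree hU]
  exact ⟨F.eq_cent (Fact.out : p.Prime) hU key.1, by rw [card_norm, key.1, key.2]⟩

end Facts

end CfsgLib.JankoFourLocals
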